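import Mathlib.AlgebraicTopology.DoldKan.HomotopyEquivalence
import Mathlib.AlgebraicTopology.DoldKan.Normalized
import Mathlib.AlgebraicTopology.SimplicialObject.Homotopy
import Mathlib.Algebra.Homology.ShortComplex.Ab
import Mathlib.Algebra.Homology.QuasiIso
import Mathlib.Algebra.Category.Grp.Abelian
import Mathlib.AlgebraicTopology.SimplicialSet.Basic

/-!
Elementwise homology of the alternating face map complex of a simplicial abelian group:
every class has a representative all of whose faces vanish.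
-/

universe u

open CategoryTheory Simplicial Opposite AlgebraicTopology AlgebraicTopology.DoldKan

namespace Groth.Agent.SimpGrpH7

section criteria

variable {ι : Type*} {c : ComplexShape ι} {K L : HomologicalComplex AddCommGrpCat.{u} c}

/-- Elementwise criterion for a quasi-isomorphism in one degree. -/
theorem quasiIsoAt_iff_elements (φ : K ⟶ L) {i j k : ι} (hi : c.prev j = i) (hk : c.next j = k) :
    QuasiIsoAt φ j ↔
      (∀ z : K.X j, K.d j k z = 0 → (∃ y, L.d i j y = φ.f j z) → ∃ w, K.d i j w = z) ∧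
      (∀ y : L.X j, L.d j k y = 0 → ∃ z : K.X j, K.d j k z = 0 ∧ ∃ w, L.d i j w = φ.f j z - y) := by
  rw [quasiIsoAt_iff' φ i j k hi hk]
  let S₁ := K.sc' i j k
  let S₂ := L.sc' i j k
  let ψ : S₁ ⟶ S₂ := (HomologicalComplex.shortComplexFunctor' AddCommGrpCat.{u} c i j k).map φ
  let d₁ := S₁.abLeftHomologyData
  let d₂ := S₂.abLeftHomologyData
  change ShortComplex.QuasiIso ψ ↔ _
  rw [ShortComplex.quasiIso_iff_isIso_leftHomologyMap' ψ d₁ d₂, ConcreteCategory.isIso_iff_bijective]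
  have hsurj : ∀ q : d₁.H, ∃ z, d₁.π z = q := fun q => QuotientAddGroup.mk'_surjective _ q
  have hsurj₂ : ∀ q : d₂.H, ∃ z, d₂.π z = q := fun q => QuotientAddGroup.mk'_surjective _ q
  have h0 : ∀ z : d₁.K, d₁.π z = 0 ↔ ∃ w, K.d i j w = d₁.i z := fun z => by
    refine (QuotientAddGroup.eq_zero_iff _).trans (exists_congr fun w => ?_)
    exact ⟨fun h => congrArg Subtype.val h, fun h => Subtype.ext h⟩
  have h0₂ : ∀ z : d₂.K, d₂.π z = 0 ↔ ∃ w, L.d i j w = d₂.i z := fun z => by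
    refine (QuotientAddGroup.eq_zero_iff _).trans (exists_congr fun w => ?_)
    exact ⟨fun h => congrArg Subtype.val h, fun h => Subtype.ext h⟩
  have hmap : ∀ z, ShortComplex.leftHomologyMap' ψ d₁ d₂ (d₁.π z) = d₂.π (ShortComplex.cyclesMap' ψ d₁ d₂ z) :=
    fun z => ConcreteCategory.congr_hom (ShortComplex.leftHomologyπ_naturality' ψ d₁ d₂) z
  have hi' : ∀ z, d₂.i (ShortComplex.cyclesMap' ψ d₁ d₂ z) = φ.f j (d₁.i z) :=
    fun z => ConcreteCategory.congr_hom (ShortComplex.cyclesMap'_i ψ d₁ d₂) z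
  constructor
  · rintro ⟨hinj, hsur⟩
    refine ⟨fun z hz hy => ?_, fun y hy => ?_⟩
    · let z' : d₁.K := ⟨z, hz⟩
      refine (h0 z').mp (hinj ?_)
      rw [hmap, map_zero, h0₂, hi']
      exact hy
    · let y' : d₂.K := ⟨y, hy⟩
      obtain ⟨q, hq⟩ := hsur (d₂.π y')
      obtain ⟨z, rfl⟩ := hsurj q
      rw [hmap, ← sub_eq_zero, ← map_sub, h0₂, map_sub, hi'] at hq
      exact ⟨d₁.i z, z.2, hq⟩
  · rintro ⟨hinj, hsur⟩
    refine ⟨(injective_iff_map_eq_zero _).mpr fun q hq => ?_, fun q => ?_⟩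
    · obtain ⟨z, rfl⟩ := hsurj q
      rw [hmap, h0₂, hi'] at hq
      exact (h0 z).mpr (hinj _ z.2 hq)
    · obtain ⟨y, rfl⟩ := hsurj₂ q
      obtain ⟨z, hz, hw⟩ := hsur _ y.2
      let z' : d₁.K := ⟨z, hz⟩
      refine ⟨d₁.π z', ?_⟩
      rw [hmap, ← sub_eq_zero, ← map_sub, h0₂, map_sub, hi']
      exact hw

end criteria

variable {A B : SimplicialObject AddCommGrpCat.{u}}

/-- All proper faces of `x` vanish. -/
def Faces0 (A : SimplicialObject AddCommGrpCat.{u}) (n : ℕ) (x : A.obj (op ⦋n⦌)) : Prop :=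
  ∀ m, n = m + 1 → ∀ α : ⦋m⦌ ⟶ ⦋n⦌, A.map α.op x = 0

/-- The faces of positive index of `x` vanish. -/
def Higher0 (A : SimplicialObject AddCommGrpCat.{u}) {n : ℕ} (y : A.obj (op ⦋n + 1⦌)) : Prop :=
  ∀ i : Fin (n + 1), A.δ i.succ y = 0

theorem faces0_succ {n : ℕ} {x : A.obj (op ⦋n + 1⦌)} (h0 : A.δ 0 x = 0) (h : Higher0 A x) :
    Faces0 A (n + 1) x := by
  intro m hm α
  obtain rfl : n = m := Nat.succ.inj hm
  have hns : ¬ Function.Surjective α.toOrderHom := fun hs => by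
    have := Fintype.card_le_of_surjective _ hs
    simp at this
  obtain ⟨i, q, rfl⟩ := SimplexCategory.eq_comp_δ_of_not_surjective α hns
  rw [op_comp, Functor.map_comp_apply]
  refine Eq.trans (congrArg (A.map q.op) (?_ : A.δ i x = 0)) (map_zero (A.map q.op).hom)
  cases i using Fin.cases with
  | zero => exact h0
  | succ i => exact h i

theorem Faces0.δ_eq_zero {n : ℕ} {x : A.obj (op ⦋n + 1⦌)} (h : Faces0 A (n + 1) x) (i : Fin (n + 2)) :
    A.δ i x = 0 :=
  h n rfl _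

/-- The projection to the normalised part. -/
noncomputable abbrev pf (A : SimplicialObject AddCommGrpCat.{u}) (n : ℕ) :
    A.obj (op ⦋n⦌) ⟶ A.obj (op ⦋n⦌) :=
  (PInfty : AlternatingFaceMapComplex.obj A ⟶ _).f n

/-- The differential of the alternating face map complex. -/
noncomputable abbrev dd (A : SimplicialObject AddCommGrpCat.{u}) (i j : ℕ) :
    A.obj (op ⦋i⦌) ⟶ A.obj (op ⦋j⦌) :=
  (AlternatingFaceMapComplex.obj A).d i j

theorem d_apply (n : ℕ) (y : A.obj (op ⦋n + 1⦌)) :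
    dd A (n + 1) n y = ∑ i : Fin (n + 2), (-1 : ℤ) ^ (i : ℕ) • A.δ i y := by
  have h : dd A (n + 1) n = AlternatingFaceMapComplex.objD A n := by
    simp only [dd, AlternatingFaceMapComplex.obj, ChainComplex.of_d]
  rw [h, AlternatingFaceMapComplex.objD]
  let ev : (A.obj (op ⦋n + 1⦌) ⟶ A.obj (op ⦋n⦌)) →+ A.obj (op ⦋n⦌) :=
    AddMonoidHom.mk' (fun φ => φ y) fun _ _ => rfl
  refine (map_sum ev _ _).trans (Finset.sum_congr rfl fun i _ => ?_)
  exact map_zsmul ev _ _

theorem d_of_higher0 {n : ℕ} {y : A.obj (op ⦋n + 1⦌)} (h : Higher0 A y) :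
    dd A (n + 1) n y = A.δ 0 y := by
  rw [d_apply, Fin.sum_univ_succ, Finset.sum_eq_zero fun i _ => by rw [h i, smul_zero]]
  simp

theorem Faces0.d_eq_zero {n : ℕ} {x : A.obj (op ⦋n⦌)} (h : Faces0 A n x) (m : ℕ) : dd A n m x = 0 := by
  by_cases hm : m + 1 = n
  · subst hm
    rw [d_apply, Finset.sum_eq_zero fun i _ => by rw [h.δ_eq_zero i, smul_zero]]
  · rw [dd, HomologicalComplex.shape _ _ _ (by simpa using hm)]
    rfl

theorem higher0_PInfty (n : ℕ) (y : A.obj (op ⦋n + 1⦌)) : Higher0 A (pf A (n + 1) y) := fun i => by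
  have h := HigherFacesVanish.of_P (X := A) (n + 1) n i (by omega)
  rw [← PInfty_f] at h
  exact ConcreteCategory.congr_hom h y

theorem PInfty_eq_self_of_higher0 {n : ℕ} {y : A.obj (op ⦋n + 1⦌)} (h : Higher0 A y) :
    pf A (n + 1) y = y := by
  let φ : AddCommGrpCat.of (ULift.{u} ℤ) ⟶ A.obj (op ⦋n + 1⦌) :=
    AddCommGrpCat.ofHom ((zmultiplesHom _ y).comp AddEquiv.ulift.toAddMonoidHom)
  have hv : HigherFacesVanish (n + 1) φ := fun j _ => by
    ext ⟨t⟩
    show (A.δ j.succ).hom (t • y) = 0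
    rw [map_zsmul]
    exact (congrArg (t • ·) (h j)).trans (smul_zero t)
  have := ConcreteCategory.congr_hom hv.comp_P_eq_self (ULift.up (1 : ℤ))
  rw [← PInfty_f] at this
  change (pf A (n + 1)).hom ((1 : ℤ) • y) = (1 : ℤ) • y at this
  rwa [one_smul] at this

theorem PInfty_eq_self_of_faces0 : ∀ {n : ℕ} {x : A.obj (op ⦋n⦌)}, Faces0 A n x → pf A n x = x
  | 0, x, _ => by rw [pf, PInfty_f_0]; rfl
  | _ + 1, x, h => PInfty_eq_self_of_higher0 fun i => h.δ_eq_zero _

theorem PInfty_d (n : ℕ) (y : A.obj (op ⦋n + 1⦌)) :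
    dd A (n + 1) n (pf A (n + 1) y) = pf A n (dd A (n + 1) n y) :=
  ConcreteCategory.congr_hom ((PInfty : AlternatingFaceMapComplex.obj A ⟶ _).comm (n + 1) n) y

/-- A cycle is homologous to one with vanishing faces. -/
theorem exists_faces0 (n m : ℕ) (hm : (ComplexShape.down ℕ).next n = m) (z : A.obj (op ⦋n⦌))
    (hz : dd A n m z = 0) : ∃ w, Faces0 A n (z + dd A (n + 1) n w) := by
  have hcomm := ConcreteCategory.congr_hom ((homotopyPInftyToId A).comm n) z
  refine ⟨(homotopyPInftyToId A).hom n (n + 1) z, ?_⟩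
  obtain _ | n := n
  · intro m hm; omega
  · obtain rfl : n = m := by simpa using hm
    have e : pf A (n + 1) z = z + dd A (n + 1 + 1) (n + 1) ((homotopyPInftyToId A).hom (n + 1) (n + 1 + 1) z) := by
      rw [Homotopy.dNext_succ_chainComplex, Homotopy.prevD_chainComplex] at hcomm
      refine hcomm.trans ?_
      let h₁ : A.obj (op ⦋n⦌) ⟶ A.obj (op ⦋n + 1⦌) := (homotopyPInftyToId A).hom n (n + 1)
      let w : A.obj (op ⦋n + 1 + 1⦌) := (homotopyPInftyToId A).hom (n + 1) (n + 1 + 1) z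
      show h₁ (dd A (n + 1) n z) + dd A (n + 1 + 1) (n + 1) w + z = z + dd A (n + 1 + 1) (n + 1) w
      rw [hz, map_zero, zero_add]; exact add_comm _ _
    rw [← e]
    refine faces0_succ ?_ (higher0_PInfty n z)
    rw [← d_of_higher0 (higher0_PInfty n z), PInfty_d, hz, map_zero]

/-- A boundary with vanishing faces is the face zero of an element with vanishing higher faces. -/
theorem exists_higher0 {n : ℕ} {x : A.obj (op ⦋n⦌)} (hx : Faces0 A n x) (y : A.obj (op ⦋n + 1⦌))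
    (hy : dd A (n + 1) n y = x) : ∃ y', Higher0 A y' ∧ A.δ 0 y' = x :=
  ⟨pf A (n + 1) y, higher0_PInfty n y, by
    rw [← d_of_higher0 (higher0_PInfty n y), PInfty_d, hy, PInfty_eq_self_of_faces0 hx]⟩

/-- Simplicially homotopic maps of underlying simplicial sets agree, after normalisation at zero,
on elements with vanishing faces up to boundaries. -/
theorem exists_d_eq_of_homotopy {u v : (A ⋙ forget AddCommGrpCat.{u} : SSet.{u}) ⟶ (B ⋙ forget AddCommGrpCat.{u} : SSet.{u})}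
    (H : SimplicialObject.Homotopy u v) {n : ℕ} {x : A.obj (op ⦋n⦌)} (hx : Faces0 A n x)
    (a b a₀ b₀ : B.obj (op ⦋n⦌)) (ha : u.app (op ⦋n⦌) x = a) (hb : v.app (op ⦋n⦌) x = b)
    (ha₀ : u.app (op ⦋n⦌) (0 : A.obj (op ⦋n⦌)) = a₀) (hb₀ : v.app (op ⦋n⦌) (0 : A.obj (op ⦋n⦌)) = b₀) :
    ∃ w, dd B (n + 1) n w = (b - b₀) - (a - a₀) := by
  let hh : ∀ {m : ℕ}, Fin (m + 1) → A.obj (op ⦋m⦌) → B.obj (op ⦋m + 1⦌) := fun i z => H.h i z
  let q : Fin (n + 1) → B.obj (op ⦋n + 1⦌) := fun i => hh i x - hh i 0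
  have hq : ∀ i j, B.δ j (q i) = B.δ j (hh i x) - B.δ j (hh i 0) := fun i j => map_sub (B.δ j).hom _ _
  have hfirst : B.δ 0 (q 0) = b - b₀ := by
    rw [hq, ← hb, ← hb₀]
    exact congrArg₂ (fun s t => s - t) (ConcreteCategory.congr_hom (H.h_zero_comp_δ_zero n) x)
      (ConcreteCategory.congr_hom (H.h_zero_comp_δ_zero n) (0 : A.obj (op ⦋n⦌)))
  have hlast : B.δ (Fin.last (n + 1)) (q (Fin.last n)) = a - a₀ := by
    rw [hq, ← ha, ← ha₀]
    exact congrArg₂ (fun s t => s - t) (ConcreteCategory.congr_hom (H.h_last_comp_δ_last n) x)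
      (ConcreteCategory.congr_hom (H.h_last_comp_δ_last n) (0 : A.obj (op ⦋n⦌)))
  have hmid : ∀ i : Fin n, B.δ i.castSucc.succ (q i.succ) = B.δ i.castSucc.succ (q i.castSucc) := by
    intro i
    obtain _ | k := n
    · exact i.elim0
    rw [hq i.succ, hq i.castSucc]
    exact congrArg₂ (fun s t => s - t) (ConcreteCategory.congr_hom (H.h_succ_comp_δ_castSucc_succ i) x)
      (ConcreteCategory.congr_hom (H.h_succ_comp_δ_castSucc_succ i) (0 : A.obj (op ⦋k + 1⦌)))
  have hother : ∀ i j, j ≠ i.castSucc → j ≠ i.succ → B.δ j (q i) = 0 := by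
    intro i j h1 h2
    obtain _ | k := n
    · fin_cases i; fin_cases j
      · exact absurd rfl h1
      · exact absurd rfl h2
    rw [hq, sub_eq_zero]
    have h1' : j.val ≠ i.val := fun e => h1 (Fin.ext e)
    have h2' : j.val ≠ i.val + 1 := fun e => h2 (Fin.ext e)
    rcases Nat.lt_or_gt_of_ne h1' with hlt | hgt
    · obtain ⟨i, rfl⟩ : ∃ i', i = Fin.succ i' := ⟨i.pred (fun e => by rw [e] at hlt; simp at hlt), (Fin.succ_pred _ _).symm⟩
      obtain ⟨j, rfl⟩ : ∃ j', j = Fin.castSucc j' :=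
        ⟨j.castPred (fun e => by rw [e] at hlt; simp at hlt; omega), (Fin.castSucc_castPred _ _).symm⟩
      have hle : j ≤ i.castSucc := by rw [Fin.le_def]; simp at hlt ⊢; omega
      refine (ConcreteCategory.congr_hom (H.h_succ_comp_δ_castSucc_of_lt j i hle) x).trans
        (Eq.trans ?_ (ConcreteCategory.congr_hom (H.h_succ_comp_δ_castSucc_of_lt j i hle) (0 : A.obj (op ⦋k + 1⦌))).symm)
      exact congrArg (H.h i) ((hx.δ_eq_zero j).trans (map_zero (A.δ j).hom).symm)
    · obtain ⟨j, rfl⟩ : ∃ j', j = Fin.succ j' := ⟨j.pred (fun e => by rw [e] at hgt; simp at hgt), (Fin.succ_pred _ _).symm⟩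
      obtain ⟨i, rfl⟩ : ∃ i', i = Fin.castSucc i' :=
        ⟨i.castPred (fun e => by rw [e] at hgt h2'; simp at hgt h2'; omega), (Fin.castSucc_castPred _ _).symm⟩
      have hlt' : i.castSucc < j := by rw [Fin.lt_def]; simp at hgt h2' ⊢; omega
      refine (ConcreteCategory.congr_hom (H.h_castSucc_comp_δ_succ_of_lt j i hlt') x).trans
        (Eq.trans ?_ (ConcreteCategory.congr_hom (H.h_castSucc_comp_δ_succ_of_lt j i hlt') (0 : A.obj (op ⦋k + 1⦌))).symm)
      exact congrArg (H.h i) ((hx.δ_eq_zero j).trans (map_zero (A.δ j).hom).symm)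
  let e : Fin (n + 2) → B.obj (op ⦋n⦌) := Fin.lastCases (B.δ (Fin.last (n + 1)) (q (Fin.last n)))
    fun i => B.δ i.castSucc (q i)
  have hsucc : ∀ i : Fin (n + 1), B.δ i.succ (q i) = e i.succ := fun i => by
    induction i using Fin.lastCases with
    | last => simp only [e, Fin.succ_last, Fin.lastCases_last]
    | cast i =>
      have hc : (i.castSucc).succ = (i.succ).castSucc := (Fin.castSucc_succ i).symm
      rw [← hmid i]
      conv_rhs => rw [hc]
      simp only [e, Fin.lastCases_castSucc, hc]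
  refine ⟨∑ i : Fin (n + 1), (-1 : ℤ) ^ (i : ℕ) • q i, ?_⟩
  have hDq : ∀ i : Fin (n + 1), dd B (n + 1) n (q i) =
      (-1 : ℤ) ^ (i : ℕ) • (e i.castSucc - e i.succ) := fun i => by
    rw [d_apply, Fintype.sum_eq_add i.castSucc i.succ Fin.castSucc_lt_succ.ne
      (fun j hj => by rw [hother i j hj.1 hj.2, smul_zero]), ← hsucc]
    simp only [e, Fin.lastCases_castSucc, Fin.val_castSucc, Fin.val_succ, pow_succ, smul_sub]
    rw [mul_neg_one, neg_smul, sub_eq_add_neg]
  rw [map_sum]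
  simp only [map_zsmul, hDq, smul_smul, ← pow_add, ← two_mul, pow_mul, neg_one_sq, one_pow, one_smul]
  rw [Finset.sum_sub_distrib]
  have s1 := Fin.sum_univ_castSucc e
  have s2 := Fin.sum_univ_succ e
  have e0 : e 0 = b - b₀ := by rw [← hfirst, ← Fin.castSucc_zero]; simp only [e, Fin.lastCases_castSucc]
  have el : e (Fin.last (n + 1)) = a - a₀ := by simp only [e, Fin.lastCases_last, hlast]
  rw [← e0, ← el]
  rw [eq_sub_of_add_eq s1.symm, eq_sub_of_add_eq' s2.symm]
  abel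

end Groth.Agent.SimpGrpH7
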