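import Mathlib.Algebra.Group.Subgroup.Basic
import Mathlib.Algebra.Category.Grp.Basic
import Mathlib.AlgebraicTopology.SimplicialSet.KanComplex
import Mathlib.AlgebraicTopology.SimplicialSet.HornColimits

/-!
Moore's horn filling algorithm for simplicial groups.
-/

namespace Groth.Agent.SimpGrpH7

universe u

/-- Horn filling in three consecutive degrees of a simplicial group. -/
theorem moore {G₀ G₁ G₂ : Type u} [Group G₀] [Group G₁] [Group G₂]
    (δ : ℕ → (G₂ →* G₁)) (σ : ℕ → (G₁ →* G₂)) (δ' : ℕ → (G₁ →* G₀)) (σ' : ℕ → (G₀ →* G₁))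
    (N : ℕ)
    (hdd : ∀ j k, j < k → k ≤ N + 2 → ∀ y, δ' j (δ k y) = δ' (k - 1) (δ j y))
    (hs0 : ∀ r, r ≤ N + 1 → ∀ z, δ r (σ r z) = z)
    (hs1 : ∀ r, r ≤ N + 1 → ∀ z, δ (r + 1) (σ r z) = z)
    (hle : ∀ j r, j < r → r ≤ N + 1 → ∀ z, δ j (σ r z) = σ' (r - 1) (δ' j z))
    (hgt : ∀ j r, r + 1 < j → j ≤ N + 2 → ∀ z, δ j (σ r z) = σ' r (δ' (j - 1) z))
    (K₁ : Subgroup G₁) (K₂ : Subgroup G₂) (hδK : ∀ j, ∀ y ∈ K₂, δ j y ∈ K₁)
    (hσK : ∀ r, ∀ z ∈ K₁, σ r z ∈ K₂)
    (i : ℕ) (hi : i ≤ N + 2) (x : ℕ → G₁) (hx : ∀ j, x j ∈ K₁)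
    (hcompat : ∀ j k, j < k → k ≤ N + 2 → j ≠ i → k ≠ i → δ' j (x k) = δ' (k - 1) (x j)) :
    ∃ y ∈ K₂, ∀ j, j ≤ N + 2 → j ≠ i → δ j y = x j := by
  have up : ∀ r, r ≤ i → ∃ y ∈ K₂, ∀ j, j < r → δ j y = x j := by
    intro r
    induction r with
    | zero => exact fun _ => ⟨1, K₂.one_mem, fun j hj => absurd hj (Nat.not_lt_zero j)⟩
    | succ r ih =>
      intro hr
      obtain ⟨y, hyK, hy⟩ := ih (Nat.le_of_succ_le hr)
      set z := (δ r y)⁻¹ * x r with hz
      refine ⟨y * σ r z, K₂.mul_mem hyK (hσK r z (K₁.mul_mem (K₁.inv_mem (hδK r y hyK)) (hx r))),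
        fun j hj => ?_⟩
      rcases Nat.lt_succ_iff_lt_or_eq.mp hj with hj | rfl
      · rw [map_mul, hy j hj, hle j r hj (by omega)]
        have : δ' j z = 1 := by
          rw [hz, map_mul, map_inv, hdd j r hj (by omega), hy j hj,
            hcompat j r hj (by omega) (by omega) (by omega), inv_mul_cancel]
        rw [this, map_one, mul_one]
      · rw [map_mul, hs0 j (by omega), hz, mul_inv_cancel_left]
  have down : ∀ t, t ≤ N + 2 - i → ∃ y ∈ K₂,
      (∀ j, j < i → δ j y = x j) ∧ ∀ j, N + 2 - t < j → j ≤ N + 2 → δ j y = x j := by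
    intro t
    induction t with
    | zero =>
      intro _
      obtain ⟨y, hyK, hy⟩ := up i le_rfl
      exact ⟨y, hyK, hy, fun j hj hj' => absurd hj' (by omega)⟩
    | succ t ih =>
      intro ht
      obtain ⟨y, hyK, hlo, hhi⟩ := ih (Nat.le_of_succ_le ht)
      obtain ⟨s, hs⟩ : ∃ s, N + 2 - t = s + 1 := ⟨N + 2 - t - 1, by omega⟩
      set z := (δ (s + 1) y)⁻¹ * x (s + 1) with hz
      refine ⟨y * σ s z, K₂.mul_mem hyK (hσK s z (K₁.mul_mem (K₁.inv_mem (hδK _ y hyK)) (hx _))),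
        fun j hj => ?_, fun j hj hj' => ?_⟩
      · rw [map_mul, hlo j hj, hle j s (by omega) (by omega)]
        have : δ' j z = 1 := by
          rw [hz, map_mul, map_inv, hdd j (s + 1) (by omega) (by omega), hlo j hj,
            hcompat j (s + 1) (by omega) (by omega) (by omega) (by omega), inv_mul_cancel]
        rw [this, map_one, mul_one]
      · by_cases hje : j = s + 1
        · subst hje
          rw [map_mul, hs1 s (by omega), hz, mul_inv_cancel_left]
        · rw [map_mul, hhi j (by omega) hj', hgt j s (by omega) hj']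
          have : δ' (j - 1) z = 1 := by
            rw [hz, map_mul, map_inv, ← hdd (s + 1) j (by omega) hj', hhi j (by omega) hj',
              hcompat (s + 1) j (by omega) hj' (by omega) (by omega), inv_mul_cancel]
          rw [this, map_one, mul_one]
  obtain ⟨y, hyK, hlo, hhi⟩ := down (N + 2 - i) le_rfl
  refine ⟨y, hyK, fun j hj hji => ?_⟩
  rcases Nat.lt_or_gt_of_ne hji with h | h
  · exact hlo j h
  · exact hhi j (by omega) hj

open CategoryTheory Simplicial SimplexCategory Opposite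

theorem δ_yonedaEquiv {S : SSet.{u}} {n : ℕ} (g : (Δ[n + 1] : SSet.{u}) ⟶ S) (j : Fin (n + 2)) :
    S.δ j (SSet.yonedaEquiv g) = SSet.yonedaEquiv (SSet.stdSimplex.δ j ≫ g) := by
  obtain ⟨x, rfl⟩ := SSet.yonedaEquiv.symm.surjective g
  rw [SSet.yonedaEquiv_comp, Equiv.apply_symm_apply]
  rfl

/-- Horn filling in a simplicial set with compatible group structures, inside subgroups stable
under the simplicial operators. -/
theorem exists_filler (S : SSet.{u}) [∀ n : ℕ, Group (S _⦋n⦌)]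
    (hδ : ∀ (n : ℕ) (j : Fin (n + 2)) (x y : S _⦋n + 1⦌), S.δ j (x * y) = S.δ j x * S.δ j y)
    (hσ : ∀ (n : ℕ) (j : Fin (n + 1)) (x y : S _⦋n⦌), S.σ j (x * y) = S.σ j x * S.σ j y)
    (K : ∀ n : ℕ, Subgroup (S _⦋n⦌))
    (hδK : ∀ (n : ℕ) (j : Fin (n + 2)), ∀ y ∈ K (n + 1), S.δ j y ∈ K n)
    (hσK : ∀ (n : ℕ) (j : Fin (n + 1)), ∀ y ∈ K n, S.σ j y ∈ K (n + 1))
    (n : ℕ) (i : Fin (n + 2)) (f : ∀ (j : Fin (n + 2)) (_ : j ≠ i), (Δ[n] : SSet.{u}) ⟶ S)
    (hf : SSet.horn.IsCompatible f) (hfK : ∀ j hj, SSet.yonedaEquiv (f j hj) ∈ K n) :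
    ∃ y ∈ K (n + 1), ∀ (j : Fin (n + 2)) (hj : j ≠ i), S.δ j y = SSet.yonedaEquiv (f j hj) := by
  classical
  cases n with
  | zero =>
    obtain ⟨k, hk, huniq⟩ : ∃ k : Fin 2, k ≠ i ∧ ∀ j, j ≠ i → j = k := by
      fin_cases i
      · exact ⟨1, by simp, fun j hj => by fin_cases j <;> simp_all⟩
      · exact ⟨0, by simp, fun j hj => by fin_cases j <;> simp_all⟩
    refine ⟨S.σ 0 (SSet.yonedaEquiv (f k hk)), hσK 0 0 _ (hfK k hk), fun j hj => ?_⟩
    obtain rfl := huniq j hj
    fin_cases j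
    · exact SSet.δ_comp_σ_self_apply (S := S) (0 : Fin 1) _
    · exact SSet.δ_comp_σ_succ_apply (S := S) (0 : Fin 1) _
  | succ m =>
    let dh : ∀ (k : ℕ) (j : Fin (k + 2)), S _⦋k + 1⦌ →* S _⦋k⦌ := fun k j =>
      MonoidHom.mk' (fun y => S.δ j y) (hδ k j)
    let sh : ∀ (k : ℕ) (j : Fin (k + 1)), S _⦋k⦌ →* S _⦋k + 1⦌ := fun k j =>
      MonoidHom.mk' (fun y => S.σ j y) (hσ k j)
    let δ : ℕ → (S _⦋m + 2⦌ →* S _⦋m + 1⦌) := fun j => if h : j < m + 3 then dh (m + 1) ⟨j, h⟩ else 1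
    let δ' : ℕ → (S _⦋m + 1⦌ →* S _⦋m⦌) := fun j => if h : j < m + 2 then dh m ⟨j, h⟩ else 1
    let σ : ℕ → (S _⦋m + 1⦌ →* S _⦋m + 2⦌) := fun j => if h : j < m + 2 then sh (m + 1) ⟨j, h⟩ else 1
    let σ' : ℕ → (S _⦋m⦌ →* S _⦋m + 1⦌) := fun j => if h : j < m + 1 then sh m ⟨j, h⟩ else 1
    have eδ : ∀ j (h : j < m + 3) y, δ j y = S.δ ⟨j, h⟩ y := fun j h y => by simp only [δ, dif_pos h]; rfl
    have eδ' : ∀ j (h : j < m + 2) y, δ' j y = S.δ ⟨j, h⟩ y := fun j h y => by simp only [δ', dif_pos h]; rfl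
    have eσ : ∀ j (h : j < m + 2) y, σ j y = S.σ ⟨j, h⟩ y := fun j h y => by simp only [σ, dif_pos h]; rfl
    have eσ' : ∀ j (h : j < m + 1) y, σ' j y = S.σ ⟨j, h⟩ y := fun j h y => by simp only [σ', dif_pos h]; rfl
    let x : ℕ → S _⦋m + 1⦌ := fun j =>
      if h : j < m + 3 ∧ j ≠ i.1 then SSet.yonedaEquiv (f ⟨j, h.1⟩ (Fin.ne_of_val_ne h.2)) else 1
    have ex : ∀ j (h : j < m + 3) (h' : j ≠ i.1),
        x j = SSet.yonedaEquiv (f ⟨j, h⟩ (Fin.ne_of_val_ne h')) := fun j h h' => dif_pos ⟨h, h'⟩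
    obtain ⟨y, hyK, hy⟩ := moore δ σ δ' σ' m
      (fun j k hjk hk y => by
        rw [eδ k (by omega), eδ j (by omega), eδ' j (by omega), eδ' (k - 1) (by omega)]
        exact SSet.δ_comp_δ'_apply (S := S) (i := ⟨j, by omega⟩) (j := ⟨k, by omega⟩) hjk y)
      (fun r hr z => by
        rw [eσ r (by omega), eδ r (by omega)]
        exact SSet.δ_comp_σ_self_apply (S := S) (⟨r, by omega⟩ : Fin (m + 2)) z)
      (fun r hr z => by
        rw [eσ r (by omega), eδ (r + 1) (by omega)]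
        exact SSet.δ_comp_σ_succ_apply (S := S) (⟨r, by omega⟩ : Fin (m + 2)) z)
      (fun j r hjr hr z => by
        obtain ⟨r, rfl⟩ : ∃ r', r = r' + 1 := ⟨r - 1, by omega⟩
        rw [eσ (r + 1) (by omega), eδ j (by omega), eδ' j (by omega), eσ' (r + 1 - 1) (by omega)]
        exact SSet.δ_comp_σ_of_le_apply (S := S) (i := ⟨j, by omega⟩) (j := ⟨r, by omega⟩)
          (Fin.le_def.mpr (by simp; omega)) z)
      (fun j r hrj hj z => by
        rw [eσ r (by omega), eδ j (by omega), eδ' (j - 1) (by omega), eσ' r (by omega)]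
        exact SSet.δ_comp_σ_of_gt'_apply (S := S) (i := ⟨j, by omega⟩) (j := ⟨r, by omega⟩)
          (Fin.lt_def.mpr (by simp; omega)) z)
      (K (m + 1)) (K (m + 2))
      (fun j y hy => by
        simp only [δ]; split_ifs with h
        · exact hδK (m + 1) ⟨j, h⟩ y hy
        · exact one_mem _)
      (fun r z hz => by
        simp only [σ]; split_ifs with h
        · exact hσK (m + 1) ⟨r, h⟩ z hz
        · exact one_mem _)
      i.1 (by omega) x
      (fun j => by
        simp only [x]; split_ifs with h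
        · exact hfK _ _
        · exact one_mem _)
      (fun j k hjk hk hji hki => by
        rw [ex j (by omega) hji, ex k (by omega) hki, eδ' j (by omega), eδ' (k - 1) (by omega)]
        have h := congrArg SSet.yonedaEquiv (hf (⟨j, by omega⟩ : Fin (m + 3)) ⟨k, by omega⟩
          (Fin.ne_of_val_ne hji) (Fin.ne_of_val_ne hki) hjk)
        rw [← δ_yonedaEquiv, ← δ_yonedaEquiv] at h
        exact h.symm)
    refine ⟨y, hyK, fun j hj => ?_⟩
    have h := hy j.1 (by omega) (Fin.val_ne_of_ne hj)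
    rw [eδ j.1 j.2, ex j.1 j.2 (Fin.val_ne_of_ne hj)] at h
    exact h

open MorphismProperty in
/-- A degreewise surjective map of simplicial abelian groups is a Kan fibration. -/
theorem kanFibration {P Q : SimplicialObject AddCommGrpCat.{u}} (f : P ⟶ Q)
    (hf : ∀ n : SimplexCategoryᵒᵖ, Function.Surjective (f.app n)) :
    SSet.modelCategoryQuillen.J.rlp (X := P ⋙ forget AddCommGrpCat.{u})
      (Y := Q ⋙ forget AddCommGrpCat.{u}) (Functor.whiskerRight f (forget AddCommGrpCat.{u})) := by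
  let S : SSet.{u} := P ⋙ forget AddCommGrpCat.{u}
  let T : SSet.{u} := Q ⋙ forget AddCommGrpCat.{u}
  let φ : S ⟶ T := Functor.whiskerRight f (forget AddCommGrpCat.{u})
  letI gi : ∀ n : ℕ, Group (S.obj (Opposite.op (SimplexCategory.mk n))) := fun n =>
    (Multiplicative.group : Group (Multiplicative (P.obj (Opposite.op (SimplexCategory.mk n)))))
  let K : ∀ n : ℕ, Subgroup (S.obj (Opposite.op (SimplexCategory.mk n))) := fun n =>
    { carrier := {y | (f.app (Opposite.op (SimplexCategory.mk n))).hom y = 0}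
      mul_mem' := fun {y z} hy hz => (map_add (f.app _).hom (@id (P.obj (Opposite.op (SimplexCategory.mk n))) y) (@id (P.obj (Opposite.op (SimplexCategory.mk n))) z)).trans
        (by rw [show (f.app _).hom (@id (P.obj (Opposite.op (SimplexCategory.mk n))) y) = 0 from hy, show (f.app _).hom (@id (P.obj (Opposite.op (SimplexCategory.mk n))) z) = 0 from hz, add_zero])
      one_mem' := map_zero (f.app (Opposite.op (SimplexCategory.mk n))).hom
      inv_mem' := fun {y} hy => (map_neg (f.app _).hom (@id (P.obj (Opposite.op (SimplexCategory.mk n))) y)).trans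
        (by rw [show (f.app _).hom (@id (P.obj (Opposite.op (SimplexCategory.mk n))) y) = 0 from hy, neg_zero]) }
  intro A B g hg
  simp only [SSet.modelCategoryQuillen.J, MorphismProperty.iSup_iff] at hg
  obtain ⟨n, ⟨i⟩⟩ := hg
  refine ⟨fun {t b} sq => ?_⟩
  obtain ⟨y₀, hy₀⟩ := hf (Opposite.op (SimplexCategory.mk (n + 1))) (SSet.yonedaEquiv b)
  let a : (SSet.stdSimplex.obj (SimplexCategory.mk (n + 1)) : SSet.{u}) ⟶ S := SSet.yonedaEquiv.symm y₀
  have hab : a ≫ φ = b := SSet.yonedaEquiv.injective <| by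
    rw [SSet.yonedaEquiv_comp, Equiv.apply_symm_apply]; exact hy₀
  let F : ∀ (j : Fin (n + 2)) (_ : j ≠ i), (SSet.stdSimplex.obj (SimplexCategory.mk n) : SSet.{u}) ⟶ S :=
    fun j hj => SSet.yonedaEquiv.symm
      (@id (P.obj (Opposite.op (SimplexCategory.mk n))) (@id (P.obj (Opposite.op (SimplexCategory.mk n))) (SSet.yonedaEquiv (SSet.horn.ι i j hj ≫ t)) -
          SimplicialObject.δ P j y₀))
  have hF : SSet.horn.IsCompatible F := by
    obtain _ | m := n
    · exact trivial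
    rw [SSet.horn.isCompatible_iff]
    intro j k hj hk hjk
    apply SSet.yonedaEquiv.injective
    have h1 := congrArg SSet.yonedaEquiv ((SSet.horn.isCompatible_iff _).mp
      (SSet.horn.IsCompatible.of_hom t) j k hj hk hjk)
    simp only [← Groth.Agent.SimpGrpH7.δ_yonedaEquiv] at h1
    simp only [F, ← Groth.Agent.SimpGrpH7.δ_yonedaEquiv, Equiv.apply_symm_apply]
    refine (map_sub (SimplicialObject.δ P _).hom _ _).trans (Eq.trans ?_
      (map_sub (SimplicialObject.δ P _).hom _ _).symm)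
    have h2 : (SimplicialObject.δ P (k.pred (Fin.ne_zero_of_lt hjk))).hom (SimplicialObject.δ P j y₀) =
        (SimplicialObject.δ P (j.castPred (Fin.ne_last_of_lt hjk))).hom (SimplicialObject.δ P k y₀) :=
      (SSet.δ_comp_δ'_apply (S := S) (i := j.castPred (Fin.ne_last_of_lt hjk)) (j := k)
        (by simpa using hjk) y₀).symm
    rw [h2]
    exact congrArg (· - _) h1
  obtain ⟨y, hyK, hy⟩ := Groth.Agent.SimpGrpH7.exists_filler S
    (fun n j x y => map_add (SimplicialObject.δ P j).hom (@id (P.obj (Opposite.op (SimplexCategory.mk (n + 1)))) x) (@id (P.obj (Opposite.op (SimplexCategory.mk (n + 1)))) y))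
    (fun n j x y => map_add (SimplicialObject.σ P j).hom (@id (P.obj (Opposite.op (SimplexCategory.mk n))) x) (@id (P.obj (Opposite.op (SimplexCategory.mk n))) y)) K
    (fun n j y hy => by
      show f.app _ (SimplicialObject.δ P j y) = 0
      rw [show f.app _ (SimplicialObject.δ P j y) = SimplicialObject.δ Q j (f.app _ y) from
        ConcreteCategory.congr_hom (f.naturality (SimplexCategory.δ j).op) y,
        show f.app _ y = 0 from hy, map_zero])
    (fun n j y hy => by
      show f.app _ (SimplicialObject.σ P j y) = 0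
      rw [show f.app _ (SimplicialObject.σ P j y) = SimplicialObject.σ Q j (f.app _ y) from
        ConcreteCategory.congr_hom (f.naturality (SimplexCategory.σ j).op) y,
        show f.app _ y = 0 from hy, map_zero])
    n i F hF (fun j hj => by
      simp only [F, Equiv.apply_symm_apply]
      refine (map_sub (f.app _).hom _ _).trans (sub_eq_zero.mpr ?_)
      have h1 : SSet.horn.ι i j hj ≫ t ≫ φ = SSet.stdSimplex.δ j ≫ a ≫ φ := by
        rw [hab, sq.w, SSet.horn.ι_ι_assoc]
      have h2 := congrArg SSet.yonedaEquiv h1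
      rw [← Category.assoc, ← Category.assoc, SSet.yonedaEquiv_comp, SSet.yonedaEquiv_comp _ φ,
        ← Groth.Agent.SimpGrpH7.δ_yonedaEquiv, Equiv.apply_symm_apply] at h2
      exact h2)
  let l : (SSet.stdSimplex.obj (SimplexCategory.mk (n + 1)) : SSet.{u}) ⟶ S :=
    SSet.yonedaEquiv.symm (@id (P.obj (Opposite.op (SimplexCategory.mk (n + 1)))) (@id (P.obj (Opposite.op (SimplexCategory.mk (n + 1)))) y + y₀))
  refine ⟨⟨{ l := l, fac_left := SSet.horn.hom_ext' fun j hj => ?_, fac_right := ?_ }⟩⟩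
  · rw [SSet.horn.ι_ι_assoc]
    apply SSet.yonedaEquiv.injective
    rw [← Groth.Agent.SimpGrpH7.δ_yonedaEquiv, Equiv.apply_symm_apply]
    refine (map_add (SimplicialObject.δ P j).hom _ _).trans ?_
    have := hy j hj
    simp only [F, Equiv.apply_symm_apply] at this
    exact eq_sub_iff_add_eq.mp this
  · apply SSet.yonedaEquiv.injective
    rw [SSet.yonedaEquiv_comp, Equiv.apply_symm_apply]
    refine (map_add (f.app _).hom _ _).trans ?_
    rw [show (f.app (Opposite.op (SimplexCategory.mk (n + 1)))).hom (@id (P.obj (Opposite.op (SimplexCategory.mk (n + 1)))) y) = 0 from hyK, zero_add]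
    exact hy₀

end Groth.Agent.SimpGrpH7
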