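import Groth.Agent.Lib.SimpGrpH7.Homology
import Groth.Agent.Lib.SimpGrpH7.Moore
import Mathlib.AlgebraicTopology.SimplicialSet.Homotopy
import Mathlib.AlgebraicTopology.SimplicialSet.Boundary

/-!
Homotopy equivalences and trivial fibrations of simplicial abelian groups.
-/

universe u

open CategoryTheory Simplicial Opposite AlgebraicTopology

namespace Groth.Agent.SimpGrpH7

variable {X Y : SimplicialObject AddCommGrpCat.{u}} (f : X ⟶ Y)


theorem δ_naturality_apply (j : ℕ) (i : Fin (j + 2)) (x : X.obj (op ⦋j + 1⦌)) :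
    f.app (op ⦋j⦌) (X.δ i x) = Y.δ i (f.app (op ⦋j + 1⦌) x) :=
  ConcreteCategory.congr_hom (f.naturality (SimplexCategory.δ i).op) x

theorem d_naturality_apply (i j : ℕ) (x : X.obj (op ⦋i⦌)) :
    f.app (op ⦋j⦌) (dd X i j x) = dd Y i j (f.app (op ⦋i⦌) x) :=
  (ConcreteCategory.congr_hom (((alternatingFaceMapComplex AddCommGrpCat.{u}).map f).comm i j) x).symm

theorem faces0_map {n : ℕ} {x : X.obj (op ⦋n⦌)} (hx : Faces0 X n x) : Faces0 Y n (f.app (op ⦋n⦌) x) :=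
  fun m hm α => (NatTrans.naturality_apply f α.op x).symm.trans
    ((congrArg (f.app (op ⦋m⦌)) (hx m hm α)).trans (map_zero (f.app (op ⦋m⦌)).hom))

theorem Faces0.add {n : ℕ} {x y : X.obj (op ⦋n⦌)} (hx : Faces0 X n x) (hy : Faces0 X n y) :
    Faces0 X n (x + y) := fun m hm α => by rw [map_add, hx m hm α, hy m hm α, add_zero]

theorem Faces0.sub {n : ℕ} {x y : X.obj (op ⦋n⦌)} (hx : Faces0 X n x) (hy : Faces0 X n y) :
    Faces0 X n (x - y) := fun m hm α => by rw [map_sub, hx m hm α, hy m hm α, sub_zero]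

theorem quasiIso_map_iff :
    QuasiIso ((alternatingFaceMapComplex AddCommGrpCat.{u}).map f) ↔ ∀ n m : ℕ, (ComplexShape.down ℕ).next n = m →
      ((∀ z : X.obj (op ⦋n⦌), dd X n m z = 0 → (∃ y, dd Y (n + 1) n y = f.app (op ⦋n⦌) z) →
          ∃ w, dd X (n + 1) n w = z) ∧
      (∀ y : Y.obj (op ⦋n⦌), dd Y n m y = 0 → ∃ z : X.obj (op ⦋n⦌), dd X n m z = 0 ∧
          ∃ w, dd Y (n + 1) n w = f.app (op ⦋n⦌) z - y)) := by
  rw [quasiIso_iff]
  refine forall_congr' fun n => ⟨fun h m hm => ?_, fun h => ?_⟩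
  · exact (quasiIsoAt_iff_elements _ (by simp) hm).mp h
  · exact (quasiIsoAt_iff_elements _ (by simp) rfl).mpr (h _ rfl)

theorem quasiIso_of_homotopyEquiv (g : (Y ⋙ forget AddCommGrpCat.{u} : SSet.{u}) ⟶ (X ⋙ forget AddCommGrpCat.{u} : SSet.{u}))
    (hX : Nonempty (SSet.Homotopy ((Functor.whiskerRight f (forget AddCommGrpCat.{u})) ≫ g) (𝟙 _)) ∨ Nonempty (SSet.Homotopy (𝟙 _) ((Functor.whiskerRight f (forget AddCommGrpCat.{u})) ≫ g)))
    (hY : Nonempty (SSet.Homotopy (g ≫ (Functor.whiskerRight f (forget AddCommGrpCat.{u}))) (𝟙 _)) ∨ Nonempty (SSet.Homotopy (𝟙 _) (g ≫ (Functor.whiskerRight f (forget AddCommGrpCat.{u}))))) :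
    QuasiIso ((alternatingFaceMapComplex AddCommGrpCat.{u}).map f) := by
  let G : ∀ n, Y.obj (op ⦋n⦌) → X.obj (op ⦋n⦌) := fun n y => g.app (op ⦋n⦌) y
  let g' : ∀ n, Y.obj (op ⦋n⦌) → X.obj (op ⦋n⦌) := fun n y => G n y - G n 0
  have hnat : ∀ (m n : ℕ) (α : ⦋m⦌ ⟶ ⦋n⦌) (y : Y.obj (op ⦋n⦌)), X.map α.op (g' n y) = g' m (Y.map α.op y) := by
    intro m n α y
    have h1 : ∀ z, G m (Y.map α.op z) = X.map α.op (G n z) := fun z =>
      ConcreteCategory.congr_hom (g.naturality α.op) z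
    show X.map α.op (G n y - G n 0) = G m (Y.map α.op y) - G m 0
    rw [map_sub, ← h1, ← h1, map_zero]
  have hg0 : ∀ n, g' n 0 = 0 := fun n => sub_self _
  have hXd : ∀ {n : ℕ} {x : X.obj (op ⦋n⦌)}, Faces0 X n x →
      ∃ w, dd X (n + 1) n w = g' n (f.app (op ⦋n⦌) x) - x := by
    intro n x hx
    rcases hX with ⟨⟨H⟩⟩ | ⟨⟨H⟩⟩
    · obtain ⟨w, hw⟩ := exists_d_eq_of_homotopy H.toSimplicialObjectHomotopy hx
        (G n (f.app (op ⦋n⦌) x)) x (G n (f.app (op ⦋n⦌) 0)) 0 rfl rfl rfl rfl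
      refine ⟨-w, ?_⟩
      rw [map_neg, hw, map_zero]
      show _ = (G n _ - G n 0) - x
      abel
    · obtain ⟨w, hw⟩ := exists_d_eq_of_homotopy H.toSimplicialObjectHomotopy hx
        x (G n (f.app (op ⦋n⦌) x)) 0 (G n (f.app (op ⦋n⦌) 0)) rfl rfl rfl rfl
      refine ⟨w, ?_⟩
      rw [hw, map_zero, sub_zero]
  have hYd : ∀ {n : ℕ} {y : Y.obj (op ⦋n⦌)}, Faces0 Y n y →
      ∃ w, dd Y (n + 1) n w = f.app (op ⦋n⦌) (g' n y) - y := by
    intro n y hy
    rcases hY with ⟨⟨H⟩⟩ | ⟨⟨H⟩⟩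
    · obtain ⟨w, hw⟩ := exists_d_eq_of_homotopy H.toSimplicialObjectHomotopy hy
        (f.app (op ⦋n⦌) (G n y)) y (f.app (op ⦋n⦌) (G n 0)) 0 rfl rfl rfl rfl
      refine ⟨-w, ?_⟩
      rw [map_neg, hw, map_sub]
      abel
    · obtain ⟨w, hw⟩ := exists_d_eq_of_homotopy H.toSimplicialObjectHomotopy hy
        y (f.app (op ⦋n⦌) (G n y)) 0 (f.app (op ⦋n⦌) (G n 0)) rfl rfl rfl rfl
      refine ⟨w, ?_⟩
      rw [hw, map_sub, sub_zero]
  rw [quasiIso_map_iff]
  intro n m hm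
  refine ⟨fun z hz ⟨y, hy⟩ => ?_, fun c hc => ?_⟩
  · obtain ⟨w₀, hw₀⟩ := exists_faces0 n m hm z hz
    obtain ⟨y', hy', hy0⟩ := exists_higher0 (faces0_map f hw₀) (y + f.app (op ⦋n + 1⦌) w₀)
      (by rw [map_add, hy, ← d_naturality_apply, map_add])
    have hh : Higher0 X (g' (n + 1) y') := fun i =>
      (hnat n (n + 1) (SimplexCategory.δ i.succ) y').trans ((congrArg (g' n) (hy' i)).trans (hg0 n))
    have h0 : dd X (n + 1) n (g' (n + 1) y') = g' n (f.app (op ⦋n⦌) (z + dd X (n + 1) n w₀)) := by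
      rw [d_of_higher0 hh]
      exact (hnat n (n + 1) (SimplexCategory.δ 0) y').trans (congrArg (g' n) hy0)
    obtain ⟨w', hw'⟩ := hXd hw₀
    refine ⟨g' (n + 1) y' - w' - w₀, ?_⟩
    rw [map_sub, map_sub, h0, hw']
    abel
  · obtain ⟨w₀, hw₀⟩ := exists_faces0 n m hm c hc
    have hx : Faces0 X n (g' n (c + dd Y (n + 1) n w₀)) := fun k hk α =>
      (hnat k n α _).trans ((congrArg (g' k) (hw₀ k hk α)).trans (hg0 k))
    obtain ⟨w', hw'⟩ := hYd hw₀
    refine ⟨_, hx.d_eq_zero m, w' + w₀, ?_⟩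
    rw [map_add, hw']
    abel

/-- The kernel of a surjective quasi-isomorphism has no homotopy. -/
theorem exists_kernel_lift (hf : ∀ n : SimplexCategoryᵒᵖ, Function.Surjective (f.app n))
    (hq : QuasiIso ((alternatingFaceMapComplex AddCommGrpCat.{u}).map f)) {n : ℕ} {z : X.obj (op ⦋n⦌)}
    (hz : Faces0 X n z) (hfz : f.app (op ⦋n⦌) z = 0) :
    ∃ w : X.obj (op ⦋n + 1⦌), Higher0 X w ∧ X.δ 0 w = z ∧ f.app (op ⦋n + 1⦌) w = 0 := by
  rw [quasiIso_map_iff] at hq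
  obtain ⟨y₀, hy₀⟩ := (hq n _ rfl).1 z (hz.d_eq_zero _) ⟨0, by rw [map_zero, hfz]⟩
  obtain ⟨y, hy, hy0⟩ := exists_higher0 hz y₀ hy₀
  have hfy : Faces0 Y (n + 1) (f.app (op ⦋n + 1⦌) y) :=
    faces0_succ (by rw [← δ_naturality_apply, hy0, hfz])
      fun i => by rw [← δ_naturality_apply, hy i, map_zero]
  obtain ⟨x', hx', c, hc⟩ := (hq (n + 1) n (by simp)).2 _ (hfy.d_eq_zero n)
  obtain ⟨w₁, hw₁⟩ := exists_faces0 (n + 1) n (by simp) x' hx'
  obtain ⟨c', hc', hc0⟩ := exists_higher0 ((faces0_map f hw₁).sub hfy) (c + f.app (op ⦋n + 1 + 1⦌) w₁)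
    (by rw [map_add, hc, ← d_naturality_apply, map_add]; abel)
  obtain ⟨c₀, hc₀⟩ := hf (op ⦋n + 1 + 1⦌) c'
  have hlift : f.app (op ⦋n + 1 + 1⦌) (pf X (n + 1 + 1) c₀) = c' := by
    rw [show f.app (op ⦋n + 1 + 1⦌) (pf X (n + 1 + 1) c₀) = pf Y (n + 1 + 1) (f.app (op ⦋n + 1 + 1⦌) c₀) from
      (ConcreteCategory.congr_hom (DoldKan.PInfty_f_naturality (n + 1 + 1) f) c₀).symm, hc₀, PInfty_eq_self_of_higher0 hc']
  let e := dd X (n + 1 + 1) (n + 1) (pf X (n + 1 + 1) c₀)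
  have he : e = X.δ 0 (pf X (n + 1 + 1) c₀) := d_of_higher0 (higher0_PInfty _ _)
  have hez : ∀ i, X.δ i e = 0 := fun i => by
    rw [he]
    refine (ConcreteCategory.congr_hom (SimplicialObject.δ_comp_δ X (i := (0 : Fin (n + 2))) (j := i)
      (Fin.zero_le _)) (pf X (n + 1 + 1) c₀)).symm.trans ?_
    show X.δ 0 (X.δ i.succ (pf X (n + 1 + 1) c₀)) = 0
    rw [higher0_PInfty (n + 1) c₀ i, map_zero]
  refine ⟨y - (x' + dd X (n + 1 + 1) (n + 1) w₁) + e, fun i => ?_, ?_, ?_⟩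
  · rw [map_add, map_sub, hy i, hw₁.δ_eq_zero, hez, sub_zero, add_zero]
  · rw [map_add, map_sub, hy0, hw₁.δ_eq_zero, hez, sub_zero, add_zero]
  · have hfe : f.app (op ⦋n + 1⦌) e = f.app (op ⦋n + 1⦌) (x' + dd X (n + 1 + 1) (n + 1) w₁) - f.app (op ⦋n + 1⦌) y := by
      rw [he, δ_naturality_apply, hlift, hc0]
    rw [map_add, map_sub, hfe]
    abel

set_option backward.isDefEq.respectTransparency false in
open MorphismProperty in
theorem trivialKanFibration (hf : ∀ n : SimplexCategoryᵒᵖ, Function.Surjective (f.app n))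
    (hq : QuasiIso ((alternatingFaceMapComplex AddCommGrpCat.{u}).map f)) :
    SSet.modelCategoryQuillen.I.rlp (X := X ⋙ forget AddCommGrpCat.{u}) (Y := Y ⋙ forget AddCommGrpCat.{u}) (Functor.whiskerRight f (forget AddCommGrpCat.{u})) := by
  intro A B g hg
  obtain ⟨m⟩ := hg
  clear X Y
  constructor
  intro t b sq
  obtain _ | n := m
  · obtain ⟨v, hv⟩ := hf (op ⦋0⦌) (SSet.yonedaEquiv b)
    refine CommSq.HasLift.mk' ⟨SSet.yonedaEquiv.symm v, ?_, ?_⟩
    · ext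
    · refine SSet.yonedaEquiv.injective ?_
      rw [SSet.yonedaEquiv_comp, Equiv.apply_symm_apply]
      exact hv
  · let ι₁ : (Λ[n + 1, 0] : SSet.{u}) ⟶ ∂Δ[n + 1] := SSet.Subcomplex.homOfLE (fun k s hs hsurj => hs (by simp [Function.Surjective.range_eq (f := ⇑(SSet.stdSimplex.asOrderHom s)) hsurj]))
    have hJ : SSet.modelCategoryQuillen.J (SSet.horn.{u} (n + 1) 0).ι := SSet.modelCategoryQuillen.horn_ι_mem_J _ 0
    haveI := kanFibration f hf _ hJ
    have sq' : CommSq (ι₁ ≫ t) (SSet.horn.{u} (n + 1) 0).ι (Functor.whiskerRight f (forget AddCommGrpCat.{u})) b := ⟨by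
      rw [Category.assoc, sq.w, ← Category.assoc]; rfl⟩
    let l₀ := sq'.lift
    let T : ∀ i : Fin (n + 2), X.obj (op ⦋n⦌) := fun i => t.app (op ⦋n⦌)
      ⟨SSet.stdSimplex.objEquiv.symm (SimplexCategory.δ i), by rw [SSet.boundary_obj_eq_univ n (n + 1)]; trivial⟩
    let v : X.obj (op ⦋n + 1⦌) := SSet.yonedaEquiv l₀
    have hl₀ : ∀ {k : ℕ} (α : ⦋k⦌ ⟶ ⦋n + 1⦌), l₀.app (op ⦋k⦌) (SSet.stdSimplex.objEquiv.symm α) = X.map α.op v := by
      intro k α
      conv_lhs => rw [← SSet.yonedaEquiv.symm_apply_apply l₀]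
      exact SSet.yonedaEquiv_symm_app_objEquiv_symm _ α
    have hvT : ∀ i : Fin (n + 2), i ≠ 0 → X.δ i v = T i := fun i hi => by
      refine (hl₀ (SimplexCategory.δ i)).symm.trans ?_
      have hmem : SSet.stdSimplex.objEquiv.symm (SimplexCategory.δ i) ∈ (SSet.horn.{u} (n + 1) 0).obj (op ⦋n⦌) := by
        rw [SSet.mem_horn_iff_notMem_range]
        exact ⟨i, hi, fun ⟨j, hj⟩ => Fin.succAbove_ne i j hj⟩
      exact ConcreteCategory.congr_hom (NatTrans.congr_app sq'.fac_left (op ⦋n⦌))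
        ⟨SSet.stdSimplex.objEquiv.symm (SimplexCategory.δ i), hmem⟩
    let z : X.obj (op ⦋n⦌) := T 0 - X.δ 0 v
    have hfv : ∀ i, f.app (op ⦋n⦌) (T i) = f.app (op ⦋n⦌) (X.δ i v) := fun i => by
      refine (ConcreteCategory.congr_hom (NatTrans.congr_app sq.w (op ⦋n⦌))
        ⟨SSet.stdSimplex.objEquiv.symm (SimplexCategory.δ i), _⟩).trans ?_
      refine Eq.trans ?_ (congrArg (f.app (op ⦋n⦌)) (hl₀ (SimplexCategory.δ i)))
      exact (ConcreteCategory.congr_hom (NatTrans.congr_app sq'.fac_right (op ⦋n⦌)) _).symm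
    have hfz : f.app (op ⦋n⦌) z = 0 := by rw [map_sub, hfv, sub_self]
    have hz : Faces0 X n z := by
      intro k hk α
      subst hk
      have hns : ¬ Function.Surjective α.toOrderHom := fun hs => by
        have := Fintype.card_le_of_surjective _ hs
        simp at this
      rw [map_sub, sub_eq_zero]
      refine (ConcreteCategory.congr_hom (t.naturality α.op) _).symm.trans ?_
      refine Eq.trans ?_ (Functor.map_comp_apply X (SimplexCategory.δ (0 : Fin (k + 1 + 2))).op α.op v)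
      refine Eq.trans ?_ (hl₀ (α ≫ SimplexCategory.δ 0))
      have hmem : SSet.stdSimplex.objEquiv.symm (α ≫ SimplexCategory.δ (0 : Fin (k + 1 + 2))) ∈
          (SSet.horn.{u} (k + 1 + 1) 0).obj (op ⦋k⦌) := by
        rw [SSet.mem_horn_iff_notMem_range]
        obtain ⟨j, hj⟩ : ∃ j, ∀ i, α.toOrderHom i ≠ j := by simpa [Function.Surjective] using hns
        exact ⟨j.succ, Fin.succ_ne_zero j,
          fun ⟨i, hi⟩ => hj i (Fin.succ_injective _ hi)⟩
      exact (ConcreteCategory.congr_hom (NatTrans.congr_app sq'.fac_left (op ⦋k⦌))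
        ⟨SSet.stdSimplex.objEquiv.symm (α ≫ SimplexCategory.δ 0), hmem⟩).symm
    obtain ⟨w, hw, hw0, hfw⟩ := exists_kernel_lift f hf hq hz hfz
    let y : X.obj (op ⦋n + 1⦌) := v + w
    have hy : ∀ i, X.δ i y = T i := fun i => by
      cases i using Fin.cases with
      | zero => rw [map_add, hw0]; exact add_sub_cancel _ _
      | succ i => rw [map_add, hw i, add_zero, hvT _ (Fin.succ_ne_zero i)]
    refine CommSq.HasLift.mk' ⟨(SSet.yonedaEquiv (X := X ⋙ forget AddCommGrpCat.{u})).symm y, ?_, ?_⟩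
    · ext ⟨⟨k⟩⟩ ⟨s, hs⟩
      obtain ⟨α, rfl⟩ := SSet.stdSimplex.objEquiv.symm.surjective s
      obtain ⟨i, q, rfl⟩ := SimplexCategory.eq_comp_δ_of_not_surjective α hs
      show ((SSet.yonedaEquiv (X := (X ⋙ forget AddCommGrpCat.{u} : SSet.{u}))).symm y).app (op ⦋k⦌) (SSet.stdSimplex.objEquiv.symm (q ≫ SimplexCategory.δ i)) = _
      rw [SSet.yonedaEquiv_symm_app_objEquiv_symm]
      refine (Functor.map_comp_apply X (SimplexCategory.δ i).op q.op y).trans ?_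
      exact (congrArg (X.map q.op) (hy i)).trans (ConcreteCategory.congr_hom (t.naturality q.op) _).symm
    · refine SSet.yonedaEquiv.injective ?_
      rw [SSet.yonedaEquiv_comp, Equiv.apply_symm_apply]
      refine ((map_add (f.app (op ⦋n + 1⦌)).hom v w).trans ?_)
      rw [show (f.app (op ⦋n + 1⦌)).hom w = 0 from hfw, add_zero]
      have := congrArg SSet.yonedaEquiv sq'.fac_right
      rwa [SSet.yonedaEquiv_comp] at this

end Groth.Agent.SimpGrpH7
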